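import Groth.Agent.L07.GaDD.Functional
import Groth.Agent.L07.ExtShGa.Main
import Groth.Agent.L07.BiextTriv.Law

/-!
# Double duality of the additive group
-/

universe u

open CategoryTheory CategoryTheory.Limits AlgebraicGeometry Opposite
open Groth.L07.GaExt (fn fn_comp fn_id ptSec)
open Groth.L07.ExtShGa (ob cs cs_comp bs π cs_π ofArrows_mem)
open Groth.L08.DoubleDual (restr)
open scoped MonObj

set_option autoImplicit false
set_option backward.defeqAttrib.useBackward true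
set_option backward.isDefEq.respectTransparency false
set_option backward.isDefEq.respectTransparency.types false
set_option linter.style.haveILetI false
set_option maxHeartbeats 1000000

noncomputable section

namespace Groth.L07.GaDD

local notation "Kf" => Scheme.fppfPrecoverage

variable {S : Scheme.{u}}

/-- a morphism of sheaves bijective on affine objects is an isomorphism -/
theorem isIso_of_affine {F F' : BigSite.Ab Kf S} (α : F ⟶ F')
    (hinj : ∀ (R : Type u) [CommRing R] (s : Spec (CommRingCat.of R) ⟶ S), Function.Injective (α.hom.app (op (ob s))))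
    (hsur : ∀ (R : Type u) [CommRing R] (s : Spec (CommRingCat.of R) ⟶ S), Function.Surjective (α.hom.app (op (ob s)))) :
    IsIso α := by
  have cover : ∀ X : Over S, ∃ (κ : Type u) (R : κ → Type u) (_ : ∀ i, CommRing (R i))
      (s : ∀ i, Spec (CommRingCat.of (R i)) ⟶ S) (j : ∀ i, ob (s i) ⟶ X),
        Sieve.ofArrows (fun i => ob (s i)) j ∈ QuotSh.J Kf S X := fun X => by
    let 𝒰 := X.left.affineCover
    have hA : ∀ i, IsAffine (𝒰.X i) := fun i => inferInstance
    refine ⟨𝒰.I₀, fun i => Γ(𝒰.X i, ⊤), inferInstance, fun i => (𝒰.X i).isoSpec.inv ≫ 𝒰.f i ≫ X.hom,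
      fun i => Over.homMk ((𝒰.X i).isoSpec.inv ≫ 𝒰.f i) (Category.assoc _ _ _), ?_⟩
    refine ofArrows_mem _ _ (fun i => inferInstanceAs (Flat ((𝒰.X i).isoSpec.inv ≫ 𝒰.f i)))
      (fun i => inferInstanceAs (LocallyOfFinitePresentation ((𝒰.X i).isoSpec.inv ≫ 𝒰.f i))) fun x => ?_
    obtain ⟨y, hy⟩ := 𝒰.covers x
    refine ⟨_, (𝒰.X (𝒰.idx x)).isoSpec.hom y, ?_⟩
    show ((𝒰.X _).isoSpec.inv ≫ 𝒰.f _) ((𝒰.X _).isoSpec.hom y) = x
    rw [← Scheme.Hom.comp_apply, Iso.hom_inv_id_assoc]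
    exact hy
  haveI : Mono α := Groth.L07.BiextTriv.mono_of_injective α fun X a b hab => by
    obtain ⟨κ, R, _, s, j, hj⟩ := cover X
    refine Groth.L07.BiextTriv.eq_of_locally F hj a b ?_
    rintro T _ ⟨_, d, _, ⟨i⟩, rfl⟩
    rw [op_comp, Functor.map_comp, ConcreteCategory.comp_apply, ConcreteCategory.comp_apply]
    refine congrArg _ (hinj (R i) (s i) ?_)
    rw [NatTrans.naturality_apply α.hom, NatTrans.naturality_apply α.hom, hab]
  haveI : Epi α := by
    rw [← Sheaf.isLocallySurjective_iff_epi']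
    refine ⟨fun {X} y => ?_⟩
    obtain ⟨κ, R, _, s, j, hj⟩ := cover X
    refine GrothendieckTopology.superset_covering _ ?_ hj
    rintro T _ ⟨_, d, _, ⟨i⟩, rfl⟩
    obtain ⟨x, hx⟩ := hsur (R i) (s i) (F'.obj.map (j i).op y)
    refine ⟨F.obj.map d.op x, ?_⟩
    refine (NatTrans.naturality_apply α.hom d.op x).trans ?_
    erw [hx, Groth.L07.BiextTriv.map_map]
  exact isIso_of_mono_of_epi α

/-- the unit of a section of the multiplicative group -/
def uG {W : Over S} (x : (CGrpSh2.Gm Kf S).obj.obj (op W)) : Γ(W.left, ⊤)ˣ :=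
  GmPts.unitOfSect ((GmPts.ptsUnitsPreIso S).hom.app (op W) x)

theorem uG_add {W : Over S} (x y : (CGrpSh2.Gm Kf S).obj.obj (op W)) : uG (x + y) = uG x * uG y :=
  (congrArg GmPts.unitOfSect (map_add ((GmPts.ptsUnitsPreIso S).hom.app (op W)).hom x y)).trans
    (GmPts.unitOfSect_add _ _)

theorem uG_zero {W : Over S} : uG (0 : (CGrpSh2.Gm Kf S).obj.obj (op W)) = 1 :=
  (congrArg GmPts.unitOfSect (map_zero ((GmPts.ptsUnitsPreIso S).hom.app (op W)).hom)).trans GmPts.unitOfSect_zero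

theorem uG_map {W W' : Over S} (b : W' ⟶ W) (x : (CGrpSh2.Gm Kf S).obj.obj (op W)) :
    uG ((CGrpSh2.Gm Kf S).obj.map b.op x) = Units.map (fn b).hom.toMonoidHom (uG x) :=
  (congrArg GmPts.unitOfSect (NatTrans.naturality_apply (GmPts.ptsUnitsPreIso S).hom b.op x)).trans
    (GmPts.unitOfSect_map b _)

/-- the section of a unit -/
def sG {W : Over S} (u : Γ(W.left, ⊤)ˣ) : (CGrpSh2.Gm Kf S).obj.obj (op W) :=
  (GmPts.ptsUnitsPreIso S).inv.app (op W) (GmPts.sectOfUnit (T := op W) u)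

theorem uG_sG {W : Over S} (u : Γ(W.left, ⊤)ˣ) : uG (sG u) = u :=
  congrArg GmPts.unitOfSect (ConcreteCategory.congr_hom ((GmPts.ptsUnitsPreIso S).inv_hom_id_app (op W)) _)

theorem uG_injective {W : Over S} : Function.Injective (uG (S := S) (W := W)) := fun x y h => by
  have := congrArg (fun v => sG (S := S) (W := W) v) h
  have e : ∀ z, sG (uG (S := S) (W := W) z) = z := fun z =>
    ConcreteCategory.congr_hom ((GmPts.ptsUnitsPreIso S).hom_inv_id_app (op W)) z
  simpa only [e] using this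

section Char

variable {A : Type u} [CommRing A] {t : Spec (CommRingCat.of A) ⟶ S}

/-- the value of a local homomorphism at a function -/
def vφ (φ : (CGrpSh2.Ga Kf S).over (ob t) ⟶ (CGrpSh2.Gm Kf S).over (ob t)) {W : Over S} (a : W ⟶ ob t)
    (v : Γ(W.left, ⊤)) : Γ(W.left, ⊤)ˣ :=
  uG (φ.hom.app (op (Over.mk a)) (ptSec (Groth.L25.GaPts.ptOfElt v)))

variable (φ : (CGrpSh2.Ga Kf S).over (ob t) ⟶ (CGrpSh2.Gm Kf S).over (ob t))

theorem vφ_nat {W W' : Over S} (b : W' ⟶ W) (a : W ⟶ ob t) (v : Γ(W.left, ⊤)) :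
    Units.map (fn b).hom.toMonoidHom (vφ φ a v) = vφ φ (b ≫ a) (fn b v) := by
  rw [vφ, ← uG_map]
  refine congrArg uG ((NatTrans.naturality_apply φ.hom (Over.homMk b rfl : Over.mk (b ≫ a) ⟶ Over.mk a).op
    (ptSec (Groth.L25.GaPts.ptOfElt v))).symm.trans ?_)
  exact congrArg (φ.hom.app (op (Over.mk (b ≫ a))))
    (congrArg ULift.up (congrArg Additive.ofMul (Groth.L25.GaPts.ptOfElt_comp b v)))

theorem vφ_add {W : Over S} (a : W ⟶ ob t) (v w : Γ(W.left, ⊤)) : vφ φ a (v + w) = vφ φ a v * vφ φ a w := by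
  rw [vφ, vφ, vφ, ← uG_add]
  refine congrArg uG (Eq.trans ?_ (map_add (φ.hom.app (op (Over.mk a))).hom _ _))
  refine congrArg (φ.hom.app (op (Over.mk a))) (congrArg ULift.up (congrArg Additive.ofMul ?_))
  exact Groth.L25.GaPts.gaFn_injective (by
    show Red.gaFn _ = Red.gaFn ((Groth.L25.GaPts.ptOfElt v : W ⟶ Red.Ga S) * Groth.L25.GaPts.ptOfElt w)
    rw [Groth.L25.GaPts.gaFn_mul, Groth.L25.GaPts.gaFn_ptOfElt]
    exact (congrArg₂ (· + ·) (Groth.L25.GaPts.gaFn_ptOfElt v) (Groth.L25.GaPts.gaFn_ptOfElt w)).symm)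

/-- the affine line -/
abbrev lineOb (t : Spec (CommRingCat.of A) ⟶ S) : Over S := ob (bs (Polynomial.C : A →+* Polynomial A) t)

/-- functions on an affine object -/
abbrev inl (A : Type u) [CommRing A] : A →+* Γ(Spec (CommRingCat.of A), ⊤) :=
  (Scheme.ΓSpecIso (CommRingCat.of A)).inv.hom

theorem inl_injective (A : Type u) [CommRing A] : Function.Injective (inl A) :=
  (Scheme.ΓSpecIso (CommRingCat.of A)).commRingCatIsoToRingEquiv.symm.injective

theorem inl_hom (A : Type u) [CommRing A] (x : Γ(Spec (CommRingCat.of A), ⊤)) :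
    inl A ((Scheme.ΓSpecIso (CommRingCat.of A)).hom x) = x :=
  Iso.hom_inv_id_apply _ _

theorem cs_id {A : Type u} [CommRing A] (t : Spec (CommRingCat.of A) ⟶ S) : cs (𝟙 (ob t)) = inl A := by
  refine RingHom.ext fun r => ?_
  show ((Scheme.ΓSpecIso (CommRingCat.of A)).inv ≫ (𝟙 (Spec (CommRingCat.of A)) : _ ⟶ _).appTop) r = _
  rw [Scheme.Hom.id_appTop, Category.comp_id]
  rfl

theorem cs_base {A B : Type u} [CommRing A] [CommRing B] (g : A →+* B) (t : Spec (CommRingCat.of A) ⟶ S) :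
    cs (π g t) = (inl B).comp g :=
  congrArg CommRingCat.Hom.hom (Groth.L07.GmFppf.rh_specMap (CommRingCat.ofHom g))

/-- the polynomial of a local homomorphism -/
def cpol : Polynomial A :=
  (Scheme.ΓSpecIso (CommRingCat.of (Polynomial A))).hom
    (Units.val (vφ φ (π (Polynomial.C : A →+* Polynomial A) t) (inl (Polynomial A) Polynomial.X)))

theorem vφ_eq {W : Over S} (a : W ⟶ ob t) (v : Γ(W.left, ⊤)) :
    (vφ φ a v : Γ(W.left, ⊤)) = Polynomial.eval₂ (cs a) v (cpol φ) := by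
  let e : Polynomial A →+* Γ(W.left, ⊤) := Polynomial.eval₂RingHom (cs a) v
  have he : CommRingCat.ofHom (Polynomial.C : A →+* Polynomial A) ≫ CommRingCat.ofHom e =
      Groth.L07.GmFppf.rh a.left :=
    CommRingCat.hom_ext (RingHom.ext fun r => Polynomial.eval₂_C (cs a) v)
  let b : W ⟶ lineOb t := Over.homMk (W.left.toSpecΓ ≫ Spec.map (CommRingCat.ofHom e)) (by
    show (_ ≫ Spec.map _) ≫ Spec.map _ ≫ t = W.hom
    rw [Category.assoc, ← Category.assoc (Spec.map _), ← Spec.map_comp, he, ← Category.assoc,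
      Groth.L07.GmFppf.toSpecΓ_rh]
    exact Over.w a)
  have hb : b ≫ π (Polynomial.C : A →+* Polynomial A) t = a := by
    refine Over.OverMorphism.ext ?_
    show (W.left.toSpecΓ ≫ Spec.map _) ≫ Spec.map _ = a.left
    rw [Category.assoc, ← Spec.map_comp, he]
    exact Groth.L07.GmFppf.toSpecΓ_rh a.left
  have hfn : ∀ h : Polynomial A, fn b (inl (Polynomial A) h) = Polynomial.eval₂ (cs a) v h := fun h => by
    show Groth.L07.GmFppf.rh (W.left.toSpecΓ ≫ Spec.map (CommRingCat.ofHom e)) h = _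
    rw [Groth.L07.GmFppf.rh_comp_specMap, Groth.L07.GmFppf.rh, Scheme.toSpecΓ_appTop, Iso.inv_hom_id,
      Category.comp_id]
    rfl
  have h1 := congrArg Units.val (vφ_nat φ b (π (Polynomial.C : A →+* Polynomial A) t) (inl (Polynomial A) Polynomial.X))
  rw [hb, show fn b (inl (Polynomial A) Polynomial.X) = v from (hfn _).trans (Polynomial.eval₂_X _ _)] at h1
  rw [← h1, ← hfn]
  exact congrArg (fn b) (inl_hom _ _).symm

theorem cpol_unique {f : Polynomial A}
    (h : ∀ {W : Over S} (a : W ⟶ ob t) (v : Γ(W.left, ⊤)), (vφ φ a v : Γ(W.left, ⊤)) = Polynomial.eval₂ (cs a) v f) :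
    cpol φ = f := by
  refine inl_injective _ ?_
  rw [cpol, inl_hom, h, cs_base]
  exact (Polynomial.hom_eval₂ f Polynomial.C (inl (Polynomial A)) Polynomial.X).symm.trans
    (congrArg _ Polynomial.eval₂_C_X)

theorem isChar_cpol : IsChar (cpol φ) := by
  refine ⟨(vφ φ (π (Polynomial.C : A →+* Polynomial A) t) (inl (Polynomial A) Polynomial.X)).isUnit.map
    (Scheme.ΓSpecIso (CommRingCat.of (Polynomial A))).hom.hom, fun {T} _ _ x y => ?_⟩
  refine inl_injective T ?_
  have key : ∀ z : T, inl T (Polynomial.aeval z (cpol φ)) =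
      Units.val (vφ φ (π (algebraMap A T) t) (inl T z)) := fun z => by
    rw [vφ_eq, cs_base, Polynomial.aeval_def, Polynomial.hom_eval₂]
  rw [map_mul, key, key, key, map_add, vφ_add, Units.val_mul]

/-- the values of the local homomorphism of a character -/
def homVal {f : Polynomial A} (hf : IsChar f) {W : Over S} (a : W ⟶ ob t) :
    (CGrpSh2.Ga Kf S).obj.obj (op W) →+ (CGrpSh2.Gm Kf S).obj.obj (op W) :=
  AddMonoidHom.mk' (fun x => sG (Units.map (Polynomial.eval₂RingHom (cs a)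
      (Red.gaFn (x.down.toMul : W ⟶ Red.Ga S))).toMonoidHom hf.isUnit.unit))
    fun x y => uG_injective (by
      rw [uG_sG, uG_add, uG_sG, uG_sG]
      refine Units.ext ?_
      letI : Algebra A Γ(W.left, ⊤) := (cs a).toAlgebra
      refine Eq.trans ?_ (hf.map_add (Red.gaFn (x.down.toMul : W ⟶ Red.Ga S))
        (Red.gaFn (y.down.toMul : W ⟶ Red.Ga S)))
      exact congrArg (fun z => Polynomial.eval₂ (cs a) z f)
        (Groth.L25.GaPts.gaFn_mul (x.down.toMul : W ⟶ Red.Ga S) y.down.toMul))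

theorem homVal_nat {f : Polynomial A} (hf : IsChar f) {W W' : Over S} (b : W' ⟶ W) (a : W ⟶ ob t)
    (x : (CGrpSh2.Ga Kf S).obj.obj (op W)) :
    homVal hf (b ≫ a) ((CGrpSh2.Ga Kf S).obj.map b.op x) = (CGrpSh2.Gm Kf S).obj.map b.op (homVal hf a x) := by
  refine uG_injective ?_
  show uG (sG _) = uG ((CGrpSh2.Gm Kf S).obj.map b.op (sG _))
  rw [uG_map, uG_sG, uG_sG]
  refine Units.ext ?_
  show Polynomial.eval₂ (cs (b ≫ a)) (Red.gaFn (b ≫ (x.down.toMul : W ⟶ Red.Ga S))) f =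
    (fn b).hom (Polynomial.eval₂ (cs a) (Red.gaFn (x.down.toMul : W ⟶ Red.Ga S)) f)
  rw [Polynomial.hom_eval₂, Groth.L25.GaPts.gaFn_comp,
    show (fn b).hom.comp (cs a) = cs (b ≫ a) from RingHom.ext fun r => (cs_comp _ _ r).symm]

/-- the local homomorphism of a character -/
def homOf (t : Spec (CommRingCat.of A) ⟶ S) {f : Polynomial A} (hf : IsChar f) :
    (CGrpSh2.Ga Kf S).over (ob t) ⟶ (CGrpSh2.Gm Kf S).over (ob t) :=
  ⟨{ app := fun U => (AddCommGrpCat.ofHom (homVal hf U.unop.hom) :)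
     naturality := fun U U' k => AddCommGrpCat.ext fun x =>
       (congrArg (fun q => homVal hf q ((CGrpSh2.Ga Kf S).obj.map k.unop.left.op x)) (Over.w k.unop).symm).trans
         (homVal_nat hf k.unop.left U.unop.hom x) }⟩

theorem vφ_homOf {f : Polynomial A} (hf : IsChar f) {W : Over S} (a : W ⟶ ob t) (v : Γ(W.left, ⊤)) :
    (vφ (homOf t hf) a v : Γ(W.left, ⊤)) = Polynomial.eval₂ (cs a) v f := by
  show ((uG (sG _) : Γ(W.left, ⊤)ˣ) : Γ(W.left, ⊤)) = _
  rw [uG_sG]
  show Polynomial.eval₂ (cs a) (Red.gaFn (Groth.L25.GaPts.ptOfElt v)) f = _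
  rw [Groth.L25.GaPts.gaFn_ptOfElt]

theorem hom_ext_vφ {φ φ' : (CGrpSh2.Ga Kf S).over (ob t) ⟶ (CGrpSh2.Gm Kf S).over (ob t)}
    (h : ∀ {W : Over S} (a : W ⟶ ob t) (v : Γ(W.left, ⊤)), (vφ φ a v : Γ(W.left, ⊤)) = vφ φ' a v) : φ = φ' := by
  refine Groth.L07.BiextTriv.ext_hom fun U a x => uG_injective (Units.ext ?_)
  have := h a (Red.gaFn (x.down.toMul : U ⟶ Red.Ga S))
  rwa [vφ, vφ, Groth.L25.GaPts.ptOfElt_gaFn] at this

theorem vφ_restr {B : Type u} [CommRing B] {t' : Spec (CommRingCat.of B) ⟶ S} (c : ob t' ⟶ ob t) {W : Over S}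
    (a : W ⟶ ob t') (v : Γ(W.left, ⊤)) : vφ (restr c φ) a v = vφ φ (a ≫ c) v := rfl

theorem vφ_sum (φ' : (CGrpSh2.Ga Kf S).over (ob t) ⟶ (CGrpSh2.Gm Kf S).over (ob t)) {W : Over S} (a : W ⟶ ob t)
    (v : Γ(W.left, ⊤)) : vφ (φ + φ') a v = vφ φ a v * vφ φ' a v :=
  uG_add _ _

end Char

section Surj

variable {R : Type u} [CommRing R] (s : Spec (CommRingCat.of R) ⟶ S)

/-- the functional of a double dual section -/
def fnlVal (χ : (CGrpSh2.dualSh Kf (CGrpSh2.Ga Kf S)).over (ob s) ⟶ (CGrpSh2.Gm Kf S).over (ob s)) (A : Type u)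
    [CommRing A] [Algebra R A] (f : Polynomial A) (hf : IsChar f) : A :=
  (Scheme.ΓSpecIso (CommRingCat.of A)).hom
    (Units.val (uG (χ.hom.app (op (Over.mk (π (algebraMap R A) s))) (homOf (bs (algebraMap R A) s) hf))))

theorem inl_fnlVal (χ : (CGrpSh2.dualSh Kf (CGrpSh2.Ga Kf S)).over (ob s) ⟶ (CGrpSh2.Gm Kf S).over (ob s))
    (A : Type u) [CommRing A] [Algebra R A] (f : Polynomial A) (hf : IsChar f) :
    inl A (fnlVal s χ A f hf) =
      (Units.val (uG (χ.hom.app (op (Over.mk (π (algebraMap R A) s))) (homOf (bs (algebraMap R A) s) hf)))) :=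
  inl_hom _ _

/-- the functional of a double dual section -/
def fnl (χ : (CGrpSh2.dualSh Kf (CGrpSh2.Ga Kf S)).over (ob s) ⟶ (CGrpSh2.Gm Kf S).over (ob s)) : Fnl R where
  val A _ _ f hf := fnlVal s χ A f hf
  map_val {A A'} _ _ _ _ g f hf := by
    let c : ob (bs (algebraMap R A') s) ⟶ ob (bs (algebraMap R A) s) := Over.homMk (Spec.map (CommRingCat.ofHom g.toRingHom)) (by
      show Spec.map _ ≫ Spec.map _ ≫ s = Spec.map _ ≫ s
      rw [← Category.assoc, ← Spec.map_comp, ← CommRingCat.ofHom_comp,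
        show g.toRingHom.comp (algebraMap R A) = algebraMap R A' from g.comp_algebraMap])
    have hc : c ≫ π (algebraMap R A) s = π (algebraMap R A') s := by
      refine Over.OverMorphism.ext ?_
      show Spec.map _ ≫ Spec.map _ = Spec.map _
      rw [← Spec.map_comp, ← CommRingCat.ofHom_comp,
        show g.toRingHom.comp (algebraMap R A) = algebraMap R A' from g.comp_algebraMap]
    have hfn : ∀ x : A, fn c (inl A x) = inl A' (g x) := fun x =>
      (ConcreteCategory.congr_hom (Scheme.ΓSpecIso_inv_naturality (CommRingCat.ofHom g.toRingHom)) x).symm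
    have hres : restr c (homOf (bs (algebraMap R A) s) hf) =
        homOf (bs (algebraMap R A') s) (hf.map g.toRingHom) := hom_ext_vφ fun {W} a v => by
      rw [vφ_restr, vφ_homOf, vφ_homOf, Polynomial.eval₂_map]
      refine congrArg (fun k => Polynomial.eval₂ k v f) ?_
      exact congrArg CommRingCat.Hom.hom (Groth.L07.GmFppf.rh_comp_specMap a.left (CommRingCat.ofHom g.toRingHom))
    refine inl_injective A' ?_
    rw [← hfn, inl_fnlVal, inl_fnlVal]
    refine congrArg Units.val ((uG_map c _).symm.trans (congrArg uG ?_))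
    refine (NatTrans.naturality_apply χ.hom (Over.homMk c hc :
      Over.mk (π (algebraMap R A') s) ⟶ Over.mk (π (algebraMap R A) s)).op _).symm.trans ?_
    exact congrArg (χ.hom.app (op (Over.mk (π (algebraMap R A') s)))) hres
  val_mul A _ _ f f' hf hf' := by
    refine inl_injective A ?_
    rw [map_mul, inl_fnlVal, inl_fnlVal, inl_fnlVal, ← Units.val_mul, ← uG_add]
    refine congrArg Units.val (congrArg uG (Eq.trans ?_ (map_add (χ.hom.app (op (Over.mk (π (algebraMap R A) s)))).hom _ _)))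
    refine congrArg (χ.hom.app (op (Over.mk (π (algebraMap R A) s)))) (hom_ext_vφ fun {W} a v => ?_)
    refine Eq.trans (vφ_homOf _ a v) ?_
    refine Eq.trans ?_ (congrArg Units.val (vφ_sum (homOf (bs (algebraMap R A) s) hf) (homOf _ hf') a v)).symm
    rw [Units.val_mul, vφ_homOf, vφ_homOf, Polynomial.eval₂_mul]
  val_one A _ _ := by
    refine inl_injective A ?_
    rw [map_one, inl_fnlVal]
    refine (congrArg Units.val (congrArg uG (Eq.trans ?_ (map_zero (χ.hom.app (op (Over.mk (π (algebraMap R A) s)))).hom)))).trans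
      ((congrArg Units.val uG_zero).trans Units.val_one)
    refine congrArg (χ.hom.app (op (Over.mk (π (algebraMap R A) s)))) (hom_ext_vφ fun {W} a v => ?_)
    refine (vφ_homOf _ a v).trans ?_
    rw [Polynomial.eval₂_one]
    exact (Units.val_one.symm.trans (congrArg Units.val uG_zero.symm))

/-- the section of a function -/
def secOf (r : R) : (CGrpSh2.Ga Kf S).obj.obj (op (ob s)) := ptSec (Groth.L25.GaPts.ptOfElt (inl R r))

theorem ev_secOf (r : R) {A : Type u} [CommRing A] (g : R →+* A)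
    (φ : (CGrpSh2.Ga Kf S).over (ob (bs g s)) ⟶ (CGrpSh2.Gm Kf S).over (ob (bs g s))) :
    uG ((HomSh.evalSect (QuotSh.J Kf S) (secOf s r)).hom.app (op (Over.mk (π g s))) φ) =
      vφ φ (𝟙 _) (inl A (g r)) := by
  refine congrArg uG ?_
  refine congrArg (φ.hom.app (op (Over.mk (𝟙 (ob (bs g s)))))) ?_
  refine congrArg ULift.up (congrArg Additive.ofMul ?_)
  refine (Groth.L25.GaPts.ptOfElt_comp (π g s) (inl R r)).trans (congrArg Groth.L25.GaPts.ptOfElt ?_)
  exact (ConcreteCategory.congr_hom (Scheme.ΓSpecIso_inv_naturality (CommRingCat.ofHom g)) r).symm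

theorem bidual_injective :
    Function.Injective ((CGrpSh2.toDoubleDual Kf (CGrpSh2.Ga Kf S)).hom.app (op (ob s))) := by
  intro σ σ' h
  let rOf : (CGrpSh2.Ga Kf S).obj.obj (op (ob s)) → R := fun σ =>
    (Scheme.ΓSpecIso (CommRingCat.of R)).hom (Red.gaFn (σ.down.toMul : ob s ⟶ Red.Ga S))
  have hrOf : ∀ σ, secOf s (rOf σ) = σ := fun σ => by
    refine ULift.ext _ _ (Additive.toMul.injective ?_)
    show Groth.L25.GaPts.ptOfElt (inl R _) = (σ.down.toMul : ob s ⟶ Red.Ga S)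
    rw [inl_hom, Groth.L25.GaPts.ptOfElt_gaFn]
  obtain ⟨r, rfl⟩ : ∃ r, secOf s r = σ := ⟨_, hrOf σ⟩
  obtain ⟨r', rfl⟩ : ∃ r, secOf s r = σ' := ⟨_, hrOf σ'⟩
  have hev : HomSh.evalSect (QuotSh.J Kf S) (secOf s r) =
      (HomSh.evalSect (QuotSh.J Kf S) (secOf s r') : (CGrpSh2.dualSh Kf (CGrpSh2.Ga Kf S)).over (ob s) ⟶
        (CGrpSh2.Gm Kf S).over (ob s)) := h
  let T := AdjoinRoot ((Polynomial.X : Polynomial R) ^ 2)
  let t : T := AdjoinRoot.root _
  have ht : t ^ 2 = 0 := by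
    have := AdjoinRoot.eval₂_root ((Polynomial.X : Polynomial R) ^ 2)
    rwa [Polynomial.eval₂_X_pow] at this
  have hf : IsChar (eP (fun _ => (1 : R)) 2 t 1) := isChar_eP rfl two_pos
    (fun k hk => by obtain rfl | rfl : k = 0 ∨ k = 1 := by omega
                    all_goals simp) ht fun x y => by simp
  have e : uG ((HomSh.evalSect (QuotSh.J Kf S) (secOf s r)).hom.app (op (Over.mk (π (algebraMap R T) s)))
      (homOf _ hf)) = uG ((HomSh.evalSect (QuotSh.J Kf S) (secOf s r')).hom.app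
        (op (Over.mk (π (algebraMap R T) s))) (homOf _ hf)) := by rw [hev]
  rw [ev_secOf, ev_secOf] at e
  have e' := congrArg Units.val e
  rw [vφ_homOf, vφ_homOf, cs_id] at e'
  have hid : ∀ x : T, Polynomial.eval₂ (inl T) (inl T x) (eP (fun _ => (1 : R)) 2 t 1) =
      inl T (Polynomial.eval₂ (RingHom.id T) x (eP (fun _ => (1 : R)) 2 t 1)) := fun x =>
    (Polynomial.hom_eval₂ _ (RingHom.id T) (inl T) x).symm
  rw [hid, hid] at e'
  have e'' := inl_injective T e'
  refine congrArg (secOf s) ?_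
  have hev2 : ∀ x : T, Polynomial.eval₂ (RingHom.id T) x (eP (fun _ => (1 : R)) 2 t 1) = 1 + t * x := fun x => by
    rw [show Polynomial.eval₂ (RingHom.id T) x _ = Polynomial.aeval x _ from rfl, eval_eP, Esum, Finset.sum_range_succ,
      Finset.sum_range_one]
    simp
  rw [hev2, hev2, add_right_inj] at e''
  have h' : AdjoinRoot.mk ((Polynomial.X : Polynomial R) ^ 2) (Polynomial.C (r - r') * Polynomial.X) = 0 := by
    rw [map_mul, AdjoinRoot.mk_X, AdjoinRoot.mk_C, map_sub, sub_mul, sub_eq_zero]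
    exact ((mul_comm _ _).trans e'').trans (mul_comm _ _)
  have := Polynomial.X_pow_dvd_iff.1 (AdjoinRoot.mk_eq_zero.1 h') 1 (by norm_num)
  simpa [sub_eq_zero] using this

theorem bidual_surjective
    (hEval : ∀ K : Fnl R, ∃ r : R, ∀ (A : Type u) [CommRing A] [Algebra R A] (f : Polynomial A) (hf : IsChar f),
      K.val A f hf = Polynomial.aeval (algebraMap R A r) f) :
    Function.Surjective ((CGrpSh2.toDoubleDual Kf (CGrpSh2.Ga Kf S)).hom.app (op (ob s))) := by
  intro χ'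
  let χ : (CGrpSh2.dualSh Kf (CGrpSh2.Ga Kf S)).over (ob s) ⟶ (CGrpSh2.Gm Kf S).over (ob s) := χ'
  obtain ⟨r, hr⟩ := hEval (fnl s χ)
  refine ⟨secOf s r, ?_⟩
  show HomSh.evalSect (QuotSh.J Kf S) (secOf s r) = χ
  refine Groth.L07.BiextTriv.ext_hom fun W a φ => ?_
  let 𝒰 := W.left.affineCover
  have hA : ∀ i, IsAffine (𝒰.X i) := fun i => inferInstance
  let gg : ∀ i, R →+* Γ(𝒰.X i, ⊤) := fun i => (Groth.L07.GmFppf.rh (𝒰.f i ≫ a.left)).hom
  have hgg : ∀ i, (𝒰.X i).isoSpec.inv ≫ 𝒰.f i ≫ a.left = Spec.map (CommRingCat.ofHom (gg i)) := fun i =>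
    (Iso.inv_comp_eq _).2 (Groth.L07.GmFppf.toSpecΓ_rh _).symm
  let j : ∀ i, ob (bs (gg i) s) ⟶ W := fun i => Over.homMk ((𝒰.X i).isoSpec.inv ≫ 𝒰.f i) (by
    show _ = Spec.map (CommRingCat.ofHom (gg i)) ≫ s
    rw [← hgg i, Category.assoc, Category.assoc, Category.assoc]
    exact congrArg (fun q => (𝒰.X i).isoSpec.inv ≫ 𝒰.f i ≫ q) (Over.w a).symm)
  have hja : ∀ i, j i ≫ a = π (gg i) s := fun i => Over.OverMorphism.ext ((Category.assoc _ _ _).trans (hgg i))
  have hcov : Sieve.ofArrows (fun i => ob (bs (gg i) s)) j ∈ QuotSh.J Kf S W := by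
    refine ofArrows_mem _ _ (fun i => inferInstanceAs (Flat ((𝒰.X i).isoSpec.inv ≫ 𝒰.f i)))
      (fun i => inferInstanceAs (LocallyOfFinitePresentation ((𝒰.X i).isoSpec.inv ≫ 𝒰.f i))) fun x => ?_
    obtain ⟨y, hy⟩ := 𝒰.covers x
    refine ⟨_, (𝒰.X (𝒰.idx x)).isoSpec.hom y, ?_⟩
    show ((𝒰.X _).isoSpec.inv ≫ 𝒰.f _) ((𝒰.X _).isoSpec.hom y) = x
    rw [← Scheme.Hom.comp_apply, Iso.hom_inv_id_assoc]
    exact hy
  refine Groth.L07.BiextTriv.eq_of_locally (CGrpSh2.Gm Kf S) hcov _ _ ?_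
  rintro T _ ⟨_, d, _, ⟨i⟩, rfl⟩
  rw [op_comp, Functor.map_comp, ConcreteCategory.comp_apply, ConcreteCategory.comp_apply]
  refine congrArg _ ?_
  let k : Over.mk (π (gg i) s) ⟶ Over.mk a := Over.homMk (j i) (hja i)
  refine ((NatTrans.naturality_apply (HomSh.evalSect (QuotSh.J Kf S) (secOf s r)).hom k.op φ).symm.trans ?_).trans
    (NatTrans.naturality_apply χ.hom k.op φ)
  let ψ : (CGrpSh2.Ga Kf S).over (ob (bs (gg i) s)) ⟶ (CGrpSh2.Gm Kf S).over (ob (bs (gg i) s)) :=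
    restr (j i) φ
  show (HomSh.evalSect (QuotSh.J Kf S) (secOf s r)).hom.app (op (Over.mk (π (gg i) s))) ψ =
    χ.hom.app (op (Over.mk (π (gg i) s))) ψ
  refine uG_injective (Units.ext ?_)
  rw [ev_secOf, vφ_eq, cs_id]
  refine (Polynomial.hom_eval₂ (cpol ψ) (RingHom.id Γ(𝒰.X i, ⊤)) (inl Γ(𝒰.X i, ⊤)) (gg i r)).symm.trans ?_
  letI : Algebra R Γ(𝒰.X i, ⊤) := (gg i).toAlgebra
  have hψ : homOf (bs (gg i) s) (isChar_cpol ψ) = ψ := hom_ext_vφ fun {V} b v => by rw [vφ_homOf, vφ_eq]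
  have h := congrArg (inl Γ(𝒰.X i, ⊤)) (hr Γ(𝒰.X i, ⊤) (cpol ψ) (isChar_cpol ψ))
  exact h.symm.trans ((inl_fnlVal s χ Γ(𝒰.X i, ⊤) (cpol ψ) (isChar_cpol ψ)).trans
    (congrArg (fun z => Units.val (uG (χ.hom.app (op (Over.mk (π (gg i) s))) z))) hψ))

end Surj

/-- double duality holds as soon as functionals on characters are evaluations -/
theorem isIso_toDoubleDual
    (hEval : ∀ (R : Type u) [CommRing R] (_ : Spec (CommRingCat.of R) ⟶ S) (K : Fnl R),
      ∃ r : R, ∀ (A : Type u) [CommRing A] [Algebra R A] (f : Polynomial A) (hf : IsChar f),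
        K.val A f hf = Polynomial.aeval (algebraMap R A r) f) :
    IsIso (CGrpSh2.toDoubleDual Kf (CGrpSh2.Ga Kf S)) :=
  isIso_of_affine _ (fun R _ s => bidual_injective s) fun R _ s => bidual_surjective s (hEval R s)

theorem natCast_Γ (S : Scheme.{u}) {R : Type u} [CommRing R] (s : Spec (CommRingCat.of R) ⟶ S) (n : ℕ) :
    (Scheme.ΓSpecIso (CommRingCat.of R)).hom (s.appTop (n : Γ(S, ⊤))) = (n : R) := by
  rw [map_natCast, map_natCast]

/-- double duality over the rationals -/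
theorem isIso_toDoubleDual_of_charZero (X : Scheme.{u}) (hQ : ∀ n : ℕ, 0 < n → IsUnit ((n : Γ(X, ⊤)))) :
    IsIso (CGrpSh2.toDoubleDual Kf (CGrpSh2.Ga Kf X)) :=
  isIso_toDoubleDual fun R _ s K => exists_eval_of_charZero K fun n hn => by
    rw [← natCast_Γ X s n]
    exact ((hQ n hn).map s.appTop.hom).map (Scheme.ΓSpecIso (CommRingCat.of R)).hom.hom

/-- double duality in characteristic `p` -/
theorem isIso_toDoubleDual_of_charP (X : Scheme.{u}) (p : ℕ) [hp : Fact p.Prime] (h : (p : Γ(X, ⊤)) = 0) :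
    IsIso (CGrpSh2.toDoubleDual Kf (CGrpSh2.Ga Kf X)) :=
  isIso_toDoubleDual fun R _ s K => by
    have hpR : (p : R) = 0 := by rw [← natCast_Γ X s p, h, map_zero, map_zero]
    rcases subsingleton_or_nontrivial R with hR | hR
    · refine ⟨0, fun A _ _ f hf => ?_⟩
      haveI : Subsingleton A := (algebraMap R A).codomain_trivial
      exact Subsingleton.elim _ _
    · haveI : CharP R p := (CharP.charP_iff_prime_eq_zero hp.out).2 hpR
      exact exists_eval_of_charP K p

end Groth.L07.GaDD
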