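import Groth.Agent.L07.GaExt.TruncSplit
import Mathlib.RingTheory.Polynomial.Nilpotent
import Mathlib.RingTheory.AdjoinRoot
import Mathlib.RingTheory.Noetherian.Nilpotent

/-!
# Truncated exponentials and the characters of the additive group over a ring
-/

universe u v w

open Groth.L25.GaGmSplit (e2 e2_inj mon2)

set_option autoImplicit false
set_option maxHeartbeats 800000
set_option linter.style.haveILetI false

noncomputable section

namespace Groth.L07.GaDD

variable {R : Type u} [CommRing R]

/-- the truncated exponential -/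
def Esum {S : Type v} [CommRing S] (φ : R →+* S) (e : ℕ → R) (N : ℕ) (U : S) : S :=
  ∑ k ∈ Finset.range N, φ (e k) * U ^ k

theorem map_Esum {S : Type v} [CommRing S] {S' : Type w} [CommRing S'] (φ : R →+* S) (ψ : S →+* S') (e : ℕ → R)
    (N : ℕ) (U : S) : ψ (Esum φ e N U) = Esum (ψ.comp φ) e N (ψ U) := by
  simp [Esum, map_sum]

theorem Esum_zero {S : Type v} [CommRing S] (φ : R →+* S) {e : ℕ → R} (he : e 0 = 1) {N : ℕ} (hN : 0 < N) :
    Esum φ e N (0 : S) = 1 := by
  rw [Esum, Finset.sum_eq_single_of_mem 0 (Finset.mem_range.2 hN) fun k _ hk => by rw [zero_pow hk, mul_zero], he,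
    map_one, pow_zero, mul_one]

theorem Esum_diff {S : Type v} [CommRing S] (φ : R →+* S) {e : ℕ → R} {N : ℕ}
    (he : ∀ k, k < N → (k.factorial : R) * e k = 1) (U V : S) :
    Esum φ e N U * Esum φ e N V - Esum φ e N (U + V) =
      ∑ x ∈ (Finset.range N ×ˢ Finset.range N).filter (fun x => N ≤ x.1 + x.2),
        φ (e x.1 * e x.2) * (U ^ x.1 * V ^ x.2) := by
  classical
  set F : ℕ × ℕ → S := fun x => φ (e x.1 * e x.2) * (U ^ x.1 * V ^ x.2)
  have h1 : Esum φ e N U * Esum φ e N V = ∑ x ∈ Finset.range N ×ˢ Finset.range N, F x := by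
    rw [Esum, Esum, Finset.sum_mul_sum, Finset.sum_product]
    refine Finset.sum_congr rfl fun i _ => Finset.sum_congr rfl fun j _ => ?_
    simp only [F, map_mul]
    ring
  have h2 : Esum φ e N (U + V) =
      ∑ x ∈ (Finset.range N ×ˢ Finset.range N).filter (fun x => ¬ N ≤ x.1 + x.2), F x := by
    rw [Esum, ← Finset.sum_fiberwise_of_maps_to (s := (Finset.range N ×ˢ Finset.range N).filter
      (fun x => ¬ N ≤ x.1 + x.2)) (t := Finset.range N) (g := fun x => x.1 + x.2)
      (fun x hx => by simp only [Finset.mem_filter, not_le] at hx; exact Finset.mem_range.2 hx.2)]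
    refine Finset.sum_congr rfl fun n hn => ?_
    rw [Finset.mem_range] at hn
    rw [add_pow, Finset.mul_sum]
    refine Finset.sum_nbij' (fun m => (m, n - m)) (fun x => x.1) ?_ ?_ ?_ ?_ ?_
    · intro m hm; simp only [Finset.mem_range] at hm; simp; omega
    · intro x hx; simp at hx; simp; omega
    · intro m _; rfl
    · intro x hx; simp at hx; ext <;> simp; omega
    · intro m hm
      simp only [Finset.mem_range] at hm
      have hc : (n.choose m : R) * ((m.factorial : R) * ((n - m).factorial : R)) = (n.factorial : R) := by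
        rw [← Nat.cast_mul, ← Nat.cast_mul, ← mul_assoc, Nat.choose_mul_factorial_mul_factorial (by omega)]
      have h : e m * e (n - m) = e n * (n.choose m : R) := by
        calc e m * e (n - m) = e n * (n.factorial : R) * (e m * e (n - m)) := by
              rw [mul_comm (e n), he n hn, one_mul]
          _ = e n * (n.choose m : R) * (((m.factorial : R) * e m) * (((n - m).factorial : R) * e (n - m))) := by
              rw [← hc]; ring
          _ = e n * (n.choose m : R) := by rw [he m (by omega), he _ (by omega)]; ring
      have h' := congrArg φ h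
      simp only [map_mul, map_natCast] at h'
      simp only [F, map_mul]
      linear_combination (-(U ^ m * V ^ (n - m))) * h'
  rw [h1, h2, ← Finset.sum_filter_add_sum_filter_not (Finset.range N ×ˢ Finset.range N)
    (fun x => N ≤ x.1 + x.2) F, add_sub_cancel_right]

theorem Esum_add {S : Type v} [CommRing S] (φ : R →+* S) {e : ℕ → R} {N : ℕ}
    (he : ∀ k, k < N → (k.factorial : R) * e k = 1) {U V : S} (h : ∀ i j, N ≤ i + j → U ^ i * V ^ j = 0) :
    Esum φ e N U * Esum φ e N V = Esum φ e N (U + V) := by
  rw [← sub_eq_zero, Esum_diff φ he]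
  exact Finset.sum_eq_zero fun x hx => by rw [h _ _ (Finset.mem_filter.1 hx).2, mul_zero]

/-- a sequence with the binomial relations is exponential -/
theorem eq_exp {N : ℕ} {e : ℕ → R} (he : ∀ k, k < N → (k.factorial : R) * e k = 1) {c : ℕ → R} (h0 : c 0 = 1)
    (hc : ∀ i j, i + j < N → ((i + j).choose i : R) * c (i + j) = c i * c j) :
    ∀ k, k < N → c k = e k * c 1 ^ k := by
  have key : ∀ k, k < N → (k.factorial : R) * c k = c 1 ^ k := by
    intro k
    induction k with
    | zero => intro _; simp [h0]
    | succ k ih =>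
      intro hk
      have h := hc 1 k (by omega)
      rw [add_comm 1 k, Nat.choose_one_right] at h
      rw [Nat.factorial_succ, Nat.cast_mul, pow_succ, ← ih (by omega)]
      linear_combination (k.factorial : R) * h
  intro k hk
  linear_combination (e k) * key k hk - (c k) * he k hk

theorem aeval_eq_sum {A : Type v} [CommRing A] [Algebra R A] {a : A} {N : ℕ} (ha : a ^ N = 0) (g : Polynomial R) :
    Polynomial.aeval a g = ∑ k ∈ Finset.range N, algebraMap R A (g.coeff k) * a ^ k := by
  induction g using Polynomial.induction_on' with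
  | add f g hf hg => simp only [map_add, hf, hg, Polynomial.coeff_add, add_mul, Finset.sum_add_distrib]
  | monomial n c =>
    rw [Polynomial.aeval_monomial]
    simp only [Polynomial.coeff_monomial]
    by_cases hn : n < N
    · rw [Finset.sum_eq_single_of_mem n (Finset.mem_range.2 hn) fun k _ hk => by simp [Ne.symm hk]]
      simp
    · rw [pow_eq_zero_of_le (by omega) ha, mul_zero, Finset.sum_eq_zero]
      intro k hk
      rw [Finset.mem_range] at hk
      simp [show n ≠ k by omega]

/-- a character of the additive group -/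
structure IsChar {A : Type u} [CommRing A] (f : Polynomial A) : Prop where
  isUnit : IsUnit f
  map_add : ∀ {S : Type u} [CommRing S] [Algebra A S] (x y : S),
    Polynomial.aeval (x + y) f = Polynomial.aeval x f * Polynomial.aeval y f

theorem IsChar.one {A : Type u} [CommRing A] : IsChar (1 : Polynomial A) := ⟨isUnit_one, fun _ _ => by simp⟩

theorem IsChar.mul {A : Type u} [CommRing A] {f g : Polynomial A} (hf : IsChar f) (hg : IsChar g) : IsChar (f * g) :=
  ⟨hf.isUnit.mul hg.isUnit, fun x y => by rw [map_mul, map_mul, map_mul, hf.map_add, hg.map_add]; ring⟩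

theorem IsChar.map {A B : Type u} [CommRing A] [CommRing B] {f : Polynomial A} (hf : IsChar f) (g : A →+* B) :
    IsChar (f.map g) :=
  ⟨hf.isUnit.map (Polynomial.mapRingHom g), fun {S} _ _ x y => by
    letI : Algebra A S := ((algebraMap B S).comp g).toAlgebra
    simp only [Polynomial.aeval_def, Polynomial.eval₂_map]
    exact hf.map_add x y⟩

theorem IsChar.eval_zero {A : Type u} [CommRing A] {f : Polynomial A} (hf : IsChar f) : f.coeff 0 = 1 := by
  have h := hf.map_add (0 : A) 0
  have hu := hf.isUnit.map (Polynomial.aeval (0 : A))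
  rw [add_zero] at h
  have := hu.mul_left_cancel (h.symm.trans (_root_.mul_one _).symm)
  rwa [Polynomial.aeval_def, Polynomial.eval₂_at_zero] at this

theorem coeff_aeval_add {A : Type u} [CommRing A] (f : Polynomial A) (i j : ℕ) :
    MvPolynomial.coeff (e2 i j) (Polynomial.aeval ((MvPolynomial.X 0 : MvPolynomial (Fin 2) A) + (MvPolynomial.X 1 : MvPolynomial (Fin 2) A)) f) =
      ((i + j).choose i : A) * f.coeff (i + j) := by
  classical
  rw [f.as_sum_range' (max (f.natDegree + 1) (i + j + 1)) (by omega), map_sum]
  simp only [Polynomial.aeval_monomial, MvPolynomial.algebraMap_eq, MvPolynomial.coeff_sum,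
    MvPolynomial.coeff_C_mul]
  have hb : ∀ n, MvPolynomial.coeff (e2 i j) (((MvPolynomial.X 0 : MvPolynomial (Fin 2) A) + (MvPolynomial.X 1 : MvPolynomial (Fin 2) A)) ^ n) = if n = i + j then ((i + j).choose i : A) else 0 := by
    intro n
    have hterm : ∀ r, (MvPolynomial.X 0 : MvPolynomial (Fin 2) A) ^ r * (MvPolynomial.X 1 : MvPolynomial (Fin 2) A) ^ (n - r) * (n.choose r : MvPolynomial (Fin 2) A) =
        MvPolynomial.monomial (e2 r (n - r)) (n.choose r : A) := fun r => by
      rw [mon2, map_natCast]; ring
    rw [add_pow, MvPolynomial.coeff_sum]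
    simp only [hterm, MvPolynomial.coeff_monomial, e2_inj]
    by_cases hn : n = i + j
    · subst hn
      rw [if_pos rfl, Finset.sum_eq_single i (fun r _ hr => by rw [if_neg]; omega)
        (fun h => by simp at h), if_pos ⟨rfl, by omega⟩]
    · rw [if_neg hn, Finset.sum_eq_zero]
      intro r hr
      rw [Finset.mem_range] at hr
      rw [if_neg]
      omega
  simp only [hb, mul_ite, mul_zero]
  rw [Finset.sum_ite_eq' (Finset.range _) (i + j), if_pos (Finset.mem_range.2 (by omega))]
  simp [Polynomial.coeff_monomial, mul_comm]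

theorem coeff_aeval_mul {A : Type u} [CommRing A] (f : Polynomial A) (i j : ℕ) :
    MvPolynomial.coeff (e2 i j) (Polynomial.aeval (MvPolynomial.X 0 : MvPolynomial (Fin 2) A) f * Polynomial.aeval (MvPolynomial.X 1 : MvPolynomial (Fin 2) A) f) =
      f.coeff i * f.coeff j := by
  classical
  rw [f.as_sum_range' (max (f.natDegree + 1) (i + j + 1)) (by omega)]
  simp only [map_sum, Polynomial.aeval_monomial, MvPolynomial.algebraMap_eq, Finset.sum_mul_sum,
    MvPolynomial.coeff_sum]
  have hb : ∀ a b (c d : A), MvPolynomial.C c * (MvPolynomial.X 0 : MvPolynomial (Fin 2) A) ^ a * (MvPolynomial.C d * (MvPolynomial.X 1 : MvPolynomial (Fin 2) A) ^ b) =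
      MvPolynomial.monomial (e2 a b) (c * d) := fun a b c d => by rw [mon2, map_mul]; ring
  simp only [hb, MvPolynomial.coeff_monomial, e2_inj]
  rw [Finset.sum_eq_single i (fun a _ ha => Finset.sum_eq_zero fun b _ => by rw [if_neg]; omega)
    (fun h => by simp at h), Finset.sum_eq_single j (fun b _ hb => by rw [if_neg]; omega)
    (fun h => by simp at h), if_pos ⟨rfl, rfl⟩]
  simp [Polynomial.coeff_monomial]

theorem IsChar.relation {A : Type u} [CommRing A] {f : Polynomial A} (hf : IsChar f) (i j : ℕ) :
    ((i + j).choose i : A) * f.coeff (i + j) = f.coeff i * f.coeff j := by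
  rw [← coeff_aeval_add, hf.map_add, coeff_aeval_mul]

/-- the exponential polynomial -/
def eP {A : Type u} [CommRing A] [Algebra R A] (e : ℕ → R) (N : ℕ) (a : A) (P : ℕ) : Polynomial A :=
  Esum (algebraMap R (Polynomial A)) e N (Polynomial.C a * Polynomial.X ^ P)

theorem map_eP {A B : Type u} [CommRing A] [Algebra R A] [CommRing B] [Algebra R B] (g : A →ₐ[R] B) (e : ℕ → R)
    (N : ℕ) (a : A) (P : ℕ) : (eP e N a P).map g.toRingHom = eP e N (g a) P := by
  rw [← Polynomial.coe_mapRingHom, eP, map_Esum, eP]
  congr 1
  · refine RingHom.ext fun r => ?_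
    simp [Polynomial.algebraMap_apply]
  · simp

theorem eval_eP {A : Type u} [CommRing A] [Algebra R A] (e : ℕ → R) (N : ℕ) (a : A) (P : ℕ) {S : Type u} [CommRing S]
    [Algebra A S] (z : S) : Polynomial.aeval z (eP e N a P) =
      Esum ((algebraMap A S).comp (algebraMap R A)) e N (algebraMap A S a * z ^ P) := by
  show (Polynomial.aeval z).toRingHom _ = _
  rw [eP, map_Esum]
  congr 1
  · refine RingHom.ext fun r => ?_
    simp [Polynomial.algebraMap_apply]
  · simp

theorem isChar_eP {A : Type u} [CommRing A] [Algebra R A] {e : ℕ → R} {N : ℕ} (h0 : e 0 = 1) (hN : 0 < N)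
    (he : ∀ k, k < N → (k.factorial : R) * e k = 1) {a : A} (ha : a ^ N = 0) {P : ℕ}
    (hP : ∀ {S : Type u} [CommRing S] [Algebra A S] (x y : S), (x + y) ^ P = x ^ P + y ^ P) : IsChar (eP e N a P) := by
  have hz : ∀ {S : Type u} [CommRing S] (c x y : S), c ^ N = 0 → ∀ i j, N ≤ i + j → (c * x) ^ i * (c * y) ^ j = 0 :=
    fun c x y hc i j hij => by
      rw [mul_pow, mul_pow, mul_mul_mul_comm, ← pow_add, pow_eq_zero_of_le hij hc, zero_mul]
  refine ⟨?_, fun {S} _ _ x y => ?_⟩
  · refine IsUnit.of_mul_eq_one (eP e N (-a) P) ?_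
    rw [eP, eP, Esum_add _ he (fun i j hij => ?_), map_neg, neg_mul, add_neg_cancel, Esum_zero _ h0 hN]
    rw [map_neg, neg_mul, ← mul_neg]
    exact hz _ _ _ (by rw [← map_pow, ha, map_zero]) i j hij
  · rw [eval_eP, eval_eP, eval_eP, hP, mul_add, Esum_add _ he (hz _ _ _ (by rw [← map_pow, ha, map_zero]))]

theorem coeff_eP {A : Type u} [CommRing A] [Algebra R A] (e : ℕ → R) (N : ℕ) (a : A) {P : ℕ} (n : ℕ) :
    (eP e N a P).coeff n = ∑ k ∈ Finset.range N, if n = P * k then algebraMap R A (e k) * a ^ k else 0 := by
  simp only [eP, Esum, Polynomial.finsetSum_coeff, Polynomial.algebraMap_apply, mul_pow, ← map_pow, ← pow_mul,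
    ← mul_assoc, ← map_mul, Polynomial.coeff_C_mul_X_pow]

/-- characters in characteristic zero -/
theorem exists_eq_eP_of_charZero {A : Type u} [CommRing A] [Algebra R A] {e : ℕ → R}
    (he : ∀ k, (k.factorial : R) * e k = 1) {f : Polynomial A} (hf : IsChar f) :
    ∃ (a : A) (N : ℕ), 0 < N ∧ a ^ N = 0 ∧ f = eP e N a 1 := by
  have hA : ∀ k, (k.factorial : A) * algebraMap R A (e k) = 1 := fun k => by
    rw [← map_natCast (algebraMap R A), ← map_mul, he, map_one]
  have hexp : ∀ k, f.coeff k = algebraMap R A (e k) * f.coeff 1 ^ k := fun k =>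
    eq_exp (N := k + 1) (e := fun k => algebraMap R A (e k)) (fun k _ => hA k) hf.eval_zero
      (fun i j _ => hf.relation i j) k (Nat.lt_succ_self k)
  refine ⟨f.coeff 1, f.natDegree + 1, Nat.succ_pos _, ?_, Polynomial.ext fun n => ?_⟩
  · have h := hexp (f.natDegree + 1)
    rw [Polynomial.coeff_eq_zero_of_natDegree_lt (Nat.lt_succ_self _)] at h
    calc f.coeff 1 ^ (f.natDegree + 1) = ((f.natDegree + 1).factorial : A) *
          algebraMap R A (e (f.natDegree + 1)) * f.coeff 1 ^ (f.natDegree + 1) := by rw [hA, one_mul]
      _ = 0 := by rw [mul_assoc, ← h, mul_zero]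
  · rw [coeff_eP]
    simp only [one_mul]
    rw [Finset.sum_ite_eq (Finset.range (f.natDegree + 1)) n]
    split_ifs with hn
    · exact hexp n
    · exact Polynomial.coeff_eq_zero_of_natDegree_lt (by simpa using hn)

section CharP

variable {p : ℕ} [hp : Fact p.Prime]

theorem pow_char_add (hp0 : (p : R) = 0) {A : Type v} [CommRing A] [Algebra R A] (i : ℕ) (x y : A) :
    (x + y) ^ (p ^ i) = x ^ (p ^ i) + y ^ (p ^ i) := by
  obtain ⟨r, hr⟩ := (Commute.all x y).exists_add_pow_prime_pow_eq hp.out i
  have : (p : A) = 0 := by rw [← map_natCast (algebraMap R A), hp0, map_zero]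
  rw [hr, this, zero_mul, zero_mul, zero_mul, add_zero]

/-- induction over characters in characteristic `p` -/
theorem char_induction (hp0 : (p : R) = 0) {A : Type u} [CommRing A] [Algebra R A] {e : ℕ → R} (h0 : e 0 = 1)
    (he : ∀ k, k < p → (k.factorial : R) * e k = 1) (P : ∀ f : Polynomial A, IsChar f → Prop) (hone : P 1 IsChar.one)
    (hgen : ∀ (a : A) (i : ℕ) (ha : a ^ p = 0), P (eP e p a (p ^ i))
      (isChar_eP h0 hp.out.pos he ha fun {S} _ _ x y => by
        letI : Algebra R S := ((algebraMap A S).comp (algebraMap R A)).toAlgebra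
        exact pow_char_add hp0 i x y))
    (hmul : ∀ f g (hf : IsChar f) (hg : IsChar g), P f hf → P g hg → P (f * g) (hf.mul hg))
    {f : Polynomial A} (hf : IsChar f) : P f hf := by
  classical
  have hpA : (p : A) = 0 := by rw [← map_natCast (algebraMap R A), hp0, map_zero]
  set D := f.natDegree + 1 with hD
  let I : Ideal A := Ideal.span ((Finset.Ioo 0 D).image f.coeff : Finset A)
  have hI : I ≤ nilradical A := by
    rw [Ideal.span_le]
    intro x hx
    obtain ⟨k, hk, rfl⟩ := Finset.mem_image.1 (Finset.mem_coe.1 hx)
    exact (Polynomial.isUnit_iff_coeff_isUnit_isNilpotent.1 hf.isUnit).2 k (by simp at hk; omega)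
  obtain ⟨M, hM⟩ := (Ideal.FG.isNilpotent_iff_le_nilradical (I := I) (Submodule.fg_span (Finset.finite_toSet _))).2 hI
  let J : ℕ → Ideal A := fun n => I ^ ((n + (D - 1)) / D)
  have hJmul : ∀ a b, J a * J b ≤ J (a + b) := fun a b => by
    rw [← pow_add]
    refine Ideal.pow_le_pow_right ?_
    rw [Nat.le_iff_lt_add_one]
    rw [Nat.div_lt_iff_lt_mul (by omega)]
    have h1 := Nat.lt_div_mul_add (a := a + (D - 1)) (show 0 < D by omega)
    have h2 := Nat.lt_div_mul_add (a := b + (D - 1)) (show 0 < D by omega)
    rw [add_mul, add_mul, one_mul]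
    omega
  have hJmono : ∀ {a b}, a ≤ b → J b ≤ J a := fun h =>
    Ideal.pow_le_pow_right (Nat.div_le_div_right (by omega))
  have hJ0 : ∀ x : A, x ∈ J 0 := fun x => by
    show x ∈ I ^ _
    rw [Nat.div_eq_of_lt (by omega), pow_zero, Ideal.one_eq_top]
    exact Submodule.mem_top
  have key : ∀ m (g : Polynomial A) (hg : IsChar g), (∀ n, g.coeff n ∈ J n) →
      ∀ d, 0 < d → M * D ≤ d + m → (∀ n, 0 < n → n < d → g.coeff n = 0) → P g hg := by
    intro m
    induction m with
    | zero =>
      intro g hg hgJ d hd hMd hzero
      have : g = 1 := Polynomial.ext fun n => by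
        rw [Polynomial.coeff_one]
        rcases Nat.eq_zero_or_pos n with rfl | hn
        · rw [if_pos rfl, hg.eval_zero]
        · rw [if_neg hn.ne']
          by_cases hnd : n < d
          · exact hzero n hn hnd
          · have h := hgJ n
            have hle : M ≤ (n + (D - 1)) / D := by
              rw [Nat.le_div_iff_mul_le (by omega)]; omega
            have := Ideal.pow_le_pow_right hle h
            rw [hM] at this
            exact (Submodule.mem_bot A).1 this
      subst this
      exact hone
    | succ m ih =>
      intro g hg hgJ d hd hMd hzero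
      obtain ⟨v, d', hd', hdv⟩ := Nat.exists_eq_pow_mul_and_not_dvd (show d ≠ 0 by omega) p hp.out.ne_one
      by_cases hd'1 : d' = 1
      · subst hd'1
        rw [mul_one] at hdv
        set a := g.coeff d with ha_def
        have hgp : g ^ p = 1 := by
          haveI : ExpChar (Polynomial A) p ∨ True := Or.inr trivial
          have hx : ∀ k : ℕ, Polynomial.aeval ((k : Polynomial A) * Polynomial.X) g =
              Polynomial.aeval (Polynomial.X : Polynomial A) g ^ k := fun k => by
            induction k with
            | zero => rw [Nat.cast_zero, zero_mul, pow_zero, Polynomial.aeval_def, Polynomial.eval₂_at_zero,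
                hg.eval_zero, map_one]
            | succ k ih => rw [Nat.cast_succ, add_mul, one_mul, hg.map_add, ih, pow_succ]
          have h := hx p
          rw [← map_natCast (Polynomial.C : A →+* Polynomial A), hpA, map_zero, zero_mul, Polynomial.aeval_def,
            Polynomial.eval₂_at_zero, hg.eval_zero, map_one, Polynomial.aeval_X_left_apply] at h
          exact h.symm
        have ha : a ^ p = 0 := by
          rcases subsingleton_or_nontrivial A with hA | hA
          · exact Subsingleton.elim _ _
          haveI : CharP A p := (CharP.charP_iff_prime_eq_zero hp.out).2 hpA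
          haveI : ExpChar A p := ExpChar.prime hp.out
          have h := congrArg (fun q : Polynomial A => q.coeff (d * p)) hgp
          rw [← Polynomial.map_frobenius_expand, Polynomial.coeff_map, Polynomial.coeff_expand_mul hp.out.pos,
            Polynomial.coeff_one, if_neg (Nat.mul_ne_zero (by omega) hp.out.ne_zero)] at h
          exact h
        have hP : ∀ {S : Type u} [CommRing S] [Algebra A S] (x y : S), (x + y) ^ (p ^ v) = x ^ (p ^ v) + y ^ (p ^ v) :=
          fun {S} _ _ x y => by
            letI : Algebra R S := ((algebraMap A S).comp (algebraMap R A)).toAlgebra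
            exact pow_char_add hp0 v x y
        have hE := isChar_eP h0 hp.out.pos he ha hP
        have hE' := isChar_eP h0 hp.out.pos he (a := -a) (by
          rw [← neg_one_mul, mul_pow, ha, mul_zero]) hP
        have hEE : eP e p a (p ^ v) * eP e p (-a) (p ^ v) = 1 := by
          rw [eP, eP, Esum_add _ he (fun i j hij => by
            rw [map_neg, neg_mul, ← mul_neg, mul_pow, mul_pow, mul_mul_mul_comm, ← pow_add,
              pow_eq_zero_of_le hij (by rw [← map_pow, ha, map_zero]), zero_mul]), map_neg, neg_mul, add_neg_cancel,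
            Esum_zero _ h0 hp.out.pos]
        set g' := g * eP e p (-a) (p ^ v) with hg'def
        have hg' : IsChar g' := hg.mul hE'
        have hcE : ∀ n, (eP e p (-a) (p ^ v)).coeff n ∈ J n := fun n => by
          rw [coeff_eP]
          refine Submodule.sum_mem _ fun k _ => ?_
          split_ifs with hn
          · subst hn
            refine Ideal.mul_mem_left _ _ ?_
            clear * - hgJ hJmul hJ0 hdv ha_def
            induction k with
            | zero => rw [pow_zero, mul_zero]; exact hJ0 _
            | succ k ih =>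
              rw [pow_succ, Nat.mul_succ]
              refine hJmul _ _ (Ideal.mul_mem_mul ih (Ideal.neg_mem_iff _ |>.2 ?_))
              rw [← hdv]
              exact hgJ d
          · exact Submodule.zero_mem _
        have hg'J : ∀ n, g'.coeff n ∈ J n := fun n => by
          rw [hg'def, Polynomial.coeff_mul]
          refine Submodule.sum_mem _ fun x hx => ?_
          rw [Finset.mem_antidiagonal] at hx
          rw [← hx]
          exact hJmul _ _ (Ideal.mul_mem_mul (hgJ _) (hcE _))
        have hEd : ∀ b : A, (eP e p b (p ^ v)).coeff 0 = 1 ∧ (∀ n, 0 < n → n < d → (eP e p b (p ^ v)).coeff n = 0) ∧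
            (eP e p b (p ^ v)).coeff d = b := fun b => by
          have hv0 := pow_pos hp.out.pos v
          refine ⟨?_, fun n hn hnd => ?_, ?_⟩
          · rw [coeff_eP, Finset.sum_eq_single_of_mem 0 (Finset.mem_range.2 hp.out.pos) fun k _ hk => by
              rw [if_neg]; exact (Nat.mul_pos hv0 (Nat.pos_of_ne_zero hk)).ne, if_pos (mul_zero _).symm, h0, map_one,
              pow_zero, mul_one]
          · rw [coeff_eP]
            refine Finset.sum_eq_zero fun k _ => if_neg fun hk => ?_
            rcases Nat.eq_zero_or_pos k with rfl | hk'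
            · omega
            · have := Nat.le_mul_of_pos_right (p ^ v) hk'
              omega
          · have he1 : algebraMap R A (e 1) = 1 := by
              have := he 1 hp.out.one_lt
              rw [Nat.factorial_one, Nat.cast_one, one_mul] at this
              rw [this, map_one]
            rw [coeff_eP, Finset.sum_eq_single_of_mem 1 (Finset.mem_range.2 hp.out.one_lt) fun k _ hk => by
              rw [if_neg]; rw [hdv]; intro h
              exact hk ((Nat.mul_left_cancel hv0 (h.symm.trans (mul_one _).symm))),
              if_pos (by rw [hdv, mul_one]), he1, one_mul, pow_one]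
        obtain ⟨hb0, hbz, hbd⟩ := hEd (-a)
        have hg'z : ∀ n, 0 < n → n < d + 1 → g'.coeff n = 0 := fun n hn hnd => by
          rw [hg'def, Polynomial.coeff_mul]
          rcases Nat.lt_or_ge n d with hlt | hge
          · refine Finset.sum_eq_zero fun x hx => ?_
            rw [Finset.mem_antidiagonal] at hx
            rcases Nat.eq_zero_or_pos x.1 with h1 | h1
            · rw [hbz x.2 (by omega) (by omega), mul_zero]
            · rw [hzero x.1 h1 (by omega), zero_mul]
          · obtain rfl : n = d := by omega
            have hne : ((0, n) : ℕ × ℕ) ≠ (n, 0) := fun h => by simp at h; omega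
            rw [Finset.sum_eq_add_of_mem (0, n) (n, 0) (by simp) (by simp) hne (fun x hx hne' => ?_), hb0, hbd,
              hg.eval_zero, one_mul, mul_one, ← ha_def, neg_add_cancel]
            rw [Finset.mem_antidiagonal] at hx
            rcases Nat.eq_zero_or_pos x.1 with h1 | h1
            · exact absurd (Prod.ext h1 (by omega)) hne'.1
            · rcases Nat.eq_zero_or_pos x.2 with h2 | h2
              · exact absurd (Prod.ext (by omega) h2) hne'.2
              · rw [hzero x.1 h1 (by omega), zero_mul]
        have := hmul g' _ hg' hE (ih g' hg' hg'J (d + 1) (Nat.succ_pos _) (by omega) hg'z) (hgen a v ha)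
        have hgg : g' * eP e p a (p ^ v) = g := by
          rw [hg'def, mul_assoc, mul_comm (eP e p (-a) (p ^ v)), hEE, mul_one]
        have hirr : ∀ (g₁ : Polynomial A) (h₁ : IsChar g₁), g₁ = g → P g₁ h₁ → P g hg := by rintro _ _ rfl h; exact h
        exact hirr _ _ hgg this
      · have hd2 : 1 < d' := by
          rcases d' with _ | _ | d'
          · exact absurd (dvd_zero p) hd'
          · exact absurd rfl hd'1
          · omega
        refine ih g hg hgJ (d + 1) (Nat.succ_pos _) (by omega) fun n hn hnd => ?_
        rcases Nat.lt_or_ge n d with hlt | hge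
        · exact hzero n hn hlt
        · obtain rfl : n = d := by omega
          have hv0 := pow_pos hp.out.pos v
          have hlt' : p ^ v < n := by rw [hdv]; exact lt_mul_of_one_lt_right hv0 hd2
          have hrel := hg.relation (p ^ v) (n - p ^ v)
          rw [Nat.add_sub_cancel' hlt'.le, hzero _ hv0 hlt', zero_mul] at hrel
          refine (Submodule.mem_bot A).1 (Groth.L25.CocycleComb.cancel (p := p) hpA
            (Groth.L25.CocycleComb.not_dvd_choose (n := n) (v := v) ?_) ((Submodule.mem_bot A).2 hrel))
          rwa [hdv, Nat.mul_div_cancel_left d' hv0]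
  refine key (M * D) f hf (fun n => ?_) 1 one_pos (by omega) (fun n h1 h2 => absurd h2 (by omega))
  rcases Nat.eq_zero_or_pos n with rfl | hn
  · exact hJ0 _
  · by_cases hnD : n < D
    · refine Ideal.pow_le_pow_right (m := (n + (D - 1)) / D) (n := 1) ?_ ?_
      · rw [Nat.div_le_iff_le_mul_add_pred (by omega)]; omega
      · rw [pow_one]
        exact Ideal.subset_span (Finset.mem_image_of_mem _ (Finset.mem_Ioo.2 ⟨hn, hnD⟩))
    · rw [Polynomial.coeff_eq_zero_of_natDegree_lt (by omega)]
      exact Submodule.zero_mem _

end CharP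

end Groth.L07.GaDD
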