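import Groth.Agent.L07.GaDD.Chars

/-!
# Functionals on the characters of the additive group are evaluations
-/

universe u v

open Groth.L25.GaGmSplit (e2 e2_inj)
open Groth.L07.GaExt.TruncSplit (V V_pow V_mul V_anti X_mem X_pow_mem degree_e2)

set_option autoImplicit false
set_option maxHeartbeats 800000
set_option linter.style.haveILetI false

noncomputable section

namespace Groth.L07.GaDD

variable (R : Type u) [CommRing R]

/-- a natural multiplicative functional on characters -/
structure Fnl where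
  val : ∀ (A : Type u) [CommRing A] [Algebra R A] (f : Polynomial A), IsChar f → A
  map_val : ∀ {A A' : Type u} [CommRing A] [Algebra R A] [CommRing A'] [Algebra R A'] (g : A →ₐ[R] A')
    (f : Polynomial A) (hf : IsChar f), g (val A f hf) = val A' (f.map g.toRingHom) (hf.map g.toRingHom)
  val_mul : ∀ (A : Type u) [CommRing A] [Algebra R A] (f f' : Polynomial A) (hf : IsChar f) (hf' : IsChar f'),
    val A (f * f') (hf.mul hf') = val A f hf * val A f' hf'
  val_one : ∀ (A : Type u) [CommRing A] [Algebra R A], val A 1 IsChar.one = 1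

variable {R} (K : Fnl R)

theorem Fnl.val_congr {A : Type u} [CommRing A] [Algebra R A] {f f' : Polynomial A} (hf : IsChar f) (e : f = f') :
    K.val A f hf = K.val A f' (e ▸ hf) := by
  subst e; rfl

theorem Fnl.mul_eq {A : Type u} [CommRing A] [Algebra R A] {f f' g : Polynomial A} (hf : IsChar f) (hf' : IsChar f')
    (hg : IsChar g) (e : f * f' = g) : K.val A f hf * K.val A f' hf' = K.val A g hg := by
  subst e
  exact (K.val_mul A f f' hf hf').symm

theorem eP_add {e : ℕ → R} {N P : ℕ} (he : ∀ k, k < N → (k.factorial : R) * e k = 1) {A : Type u} [CommRing A]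
    [Algebra R A] {s t : A} (hz : ∀ a b, N ≤ a + b → s ^ a * t ^ b = 0) :
    eP e N s P * eP e N t P = eP e N (s + t) P := by
  have hz' : ∀ a b, N ≤ a + b →
      (Polynomial.C s * Polynomial.X ^ P) ^ a * (Polynomial.C t * Polynomial.X ^ P) ^ b = 0 := fun a b hab => by
    have e1 : Polynomial.C s ^ a * Polynomial.C t ^ b = 0 := by
      rw [← map_pow, ← map_pow, ← map_mul, hz a b hab, map_zero]
    rw [mul_pow, mul_pow, mul_mul_mul_comm, e1, zero_mul]
  have h := Esum_add (algebraMap R (Polynomial A)) he hz'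
  rw [← add_mul, ← map_add] at h
  rw [eP, eP, eP]
  exact h

theorem Esum_trunc {S : Type v} [CommRing S] (φ : R →+* S) (e : ℕ → R) {N M : ℕ} (hNM : N ≤ M) {U : S}
    (hU : U ^ N = 0) : Esum φ e M U = Esum φ e N U :=
  (Finset.sum_subset (Finset.range_mono hNM) fun k _ hk => by
    rw [pow_eq_zero_of_le (by simpa using hk) hU, mul_zero]).symm

section Add

variable {P : ℕ}

/-- truncated powers of a sum -/
def ring2 (R : Type u) [CommRing R] (q D : ℕ) : Type u := MvPolynomial (Fin 2) R ⧸ V R (Fin 2) q D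

instance (q D : ℕ) : CommRing (ring2 R q D) := inferInstanceAs (CommRing (_ ⧸ _))
instance (q D : ℕ) : Algebra R (ring2 R q D) := inferInstanceAs (Algebra R (_ ⧸ _))

/-- the projection -/
def mk2 (R : Type u) [CommRing R] (q D : ℕ) : MvPolynomial (Fin 2) R →ₐ[R] ring2 R q D :=
  Ideal.Quotient.mkₐ R _

theorem mk2_eq_zero {q D : ℕ} {g : MvPolynomial (Fin 2) R} : mk2 R q D g = 0 ↔ g ∈ V R (Fin 2) q D :=
  Ideal.Quotient.eq_zero_iff_mem

theorem mk2_X_pow (q D : ℕ) (k : Fin 2) : mk2 R q D (MvPolynomial.X k) ^ q = 0 := by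
  rw [← map_pow]; exact mk2_eq_zero.2 (X_pow_mem q D k)

theorem mk2_mul_eq_zero {q D i j : ℕ} (h : D ≤ i + j) :
    mk2 R q D (MvPolynomial.X 0) ^ i * mk2 R q D (MvPolynomial.X 1) ^ j = 0 := by
  rw [← map_pow, ← map_pow, ← map_mul]
  exact mk2_eq_zero.2 (V_anti h (V_mul (V_pow (X_mem _ _) i) (V_pow (X_mem _ _) j)))

theorem mk2_inj_coeff {q D : ℕ} {a b : MvPolynomial (Fin 2) R} (h : mk2 R q D a = mk2 R q D b) {i j : ℕ}
    (hi : i < q) (hj : j < q) (hij : i + j < D) : MvPolynomial.coeff (e2 i j) a = MvPolynomial.coeff (e2 i j) b := by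
  rw [← sub_eq_zero, ← map_sub, mk2_eq_zero] at h
  have := h (e2 i j) (fun k => by fin_cases k <;> simp [e2] <;> omega) (by rw [degree_e2]; omega)
  rwa [MvPolynomial.coeff_sub, sub_eq_zero] at this

variable {e : ℕ → R} {N : ℕ} (h0 : e 0 = 1) (hN : 1 < N) (he : ∀ k, k < N → (k.factorial : R) * e k = 1)
  (hP : ∀ {A : Type u} [CommRing A] [Algebra R A] (x y : A), (x + y) ^ P = x ^ P + y ^ P)

include hP in
theorem char_of (h0 : e 0 = 1) (hN : 1 < N) (he : ∀ k, k < N → (k.factorial : R) * e k = 1) {A : Type u}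
    [CommRing A] [Algebra R A] {a : A} (ha : a ^ N = 0) : IsChar (eP e N a P) :=
  isChar_eP h0 (by omega) he ha fun {S} _ _ x y => by
    letI : Algebra R S := ((algebraMap A S).comp (algebraMap R A)).toAlgebra
    exact hP x y

include h0 hN he hP in
/-- the value on an exponential is a polynomial -/
theorem exists_poly : ∃ g : Polynomial R, g.coeff 0 = 1 ∧ ∀ (A : Type u) [CommRing A] [Algebra R A] (a : A)
    (ha : a ^ N = 0), K.val A (eP e N a P) (char_of hP h0 hN he ha) = Polynomial.aeval a g := by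
  have hroot : (AdjoinRoot.root ((Polynomial.X : Polynomial R) ^ N)) ^ N = 0 := by
    have := AdjoinRoot.eval₂_root ((Polynomial.X : Polynomial R) ^ N)
    rwa [Polynomial.eval₂_X_pow] at this
  obtain ⟨g, hg⟩ := AdjoinRoot.mk_surjective (K.val _ (eP e N (AdjoinRoot.root _) P) (char_of hP h0 hN he hroot))
  have hval : ∀ (A : Type u) [CommRing A] [Algebra R A] (a : A) (ha : a ^ N = 0),
      K.val A (eP e N a P) (char_of hP h0 hN he ha) = Polynomial.aeval a g := fun A _ _ a ha => by
    obtain ⟨ψ, hψ⟩ : ∃ ψ : AdjoinRoot ((Polynomial.X : Polynomial R) ^ N) →ₐ[R] A, ψ (AdjoinRoot.root _) = a :=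
      ⟨AdjoinRoot.liftAlgHom _ (Algebra.ofId R A) a (by rw [Polynomial.eval₂_X_pow]; exact ha),
        AdjoinRoot.liftAlgHom_root _ _ _ _⟩
    have h := K.map_val ψ _ (char_of hP h0 hN he hroot)
    rw [← hg, ← AdjoinRoot.aeval_eq, ← Polynomial.aeval_algHom_apply, hψ] at h
    rw [h]
    exact K.val_congr _ (by rw [map_eP, hψ])
  refine ⟨g, ?_, hval⟩
  have h := hval R 0 (zero_pow (by omega))
  have hE : eP e N (0 : R) P = 1 := by rw [eP, map_zero, zero_mul, Esum_zero _ h0 (by omega)]
  rw [K.val_congr _ hE] at h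
  rw [Polynomial.aeval_def, Polynomial.eval₂_at_zero, Algebra.algebraMap_self, RingHom.id_apply] at h
  exact h.symm.trans (K.val_one R)

include h0 hN he hP in
theorem poly_add {g : Polynomial R} (hg : ∀ (A : Type u) [CommRing A] [Algebra R A] (a : A) (ha : a ^ N = 0),
    K.val A (eP e N a P) (char_of hP h0 hN he ha) = Polynomial.aeval a g) {A : Type u} [CommRing A] [Algebra R A]
    {s t : A} (hs : s ^ N = 0) (ht : t ^ N = 0) (hst : (s + t) ^ N = 0)
    (hz : ∀ a b, N ≤ a + b → s ^ a * t ^ b = 0) :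
    Polynomial.aeval s g * Polynomial.aeval t g = Polynomial.aeval (s + t) g := by
  have hmul : eP e N s P * eP e N t P = eP e N (s + t) P := eP_add he hz
  rw [← hg A s hs, ← hg A t ht, ← hg A _ hst]
  exact K.mul_eq _ _ _ hmul

include h0 hN he hP in
/-- the value on an exponential is the exponential of a multiple -/
theorem exists_slope : ∃ r : R, ∀ (A : Type u) [CommRing A] [Algebra R A] (a : A) (ha : a ^ N = 0),
    K.val A (eP e N a P) (char_of hP h0 hN he ha) = Esum (algebraMap R A) e N (algebraMap R A r * a) := by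
  obtain ⟨g, hg0, hval⟩ := exists_poly K h0 hN he hP
  have hst : (mk2 R N N (MvPolynomial.X 0) + mk2 R N N (MvPolynomial.X 1)) ^ N = 0 := by
    rw [← map_add, ← map_pow]
    exact mk2_eq_zero.2 (V_pow (Ideal.add_mem _ (X_mem _ _) (X_mem _ _)) N)
  have h := poly_add K h0 hN he hP hval (mk2_X_pow N N 0) (mk2_X_pow N N 1) hst fun a b hab => mk2_mul_eq_zero hab
  rw [← map_add, Polynomial.aeval_algHom_apply, Polynomial.aeval_algHom_apply, Polynomial.aeval_algHom_apply,
    ← map_mul] at h
  have hrel : ∀ i j, i + j < N → ((i + j).choose i : R) * g.coeff (i + j) = g.coeff i * g.coeff j := fun i j hij => by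
    have := mk2_inj_coeff h (i := i) (j := j) (by omega) (by omega) hij
    rw [coeff_aeval_mul, coeff_aeval_add] at this
    exact this.symm
  refine ⟨g.coeff 1, fun A _ _ a ha => ?_⟩
  rw [hval A a ha, aeval_eq_sum ha, Esum]
  refine Finset.sum_congr rfl fun k hk => ?_
  rw [eq_exp he hg0 hrel k (Finset.mem_range.1 hk), map_mul, map_pow, mul_pow, mul_assoc]

end Add

/-- functionals are evaluations in characteristic zero -/
theorem exists_eval_of_charZero (hQ : ∀ n : ℕ, 0 < n → IsUnit (n : R)) :
    ∃ r : R, ∀ (A : Type u) [CommRing A] [Algebra R A] (f : Polynomial A) (hf : IsChar f),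
      K.val A f hf = Polynomial.aeval (algebraMap R A r) f := by
  have hex : ∀ k : ℕ, ∃ y : R, (k.factorial : R) * y = 1 := fun k => (hQ _ k.factorial_pos).exists_right_inv
  choose e he using hex
  have h0 : e 0 = 1 := by simpa using he 0
  have he1 : e 1 = 1 := by simpa using he 1
  have hP : ∀ {A : Type u} [CommRing A] [Algebra R A] (x y : A), (x + y) ^ 1 = x ^ 1 + y ^ 1 := fun x y => by simp
  choose r hr using fun N : ℕ => exists_slope K (N := N + 2) h0 (by omega) (fun k _ => he k) hP
  have hcons : ∀ N, r N = r 0 := fun N => by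
    let T := AdjoinRoot ((Polynomial.X : Polynomial R) ^ 2)
    let t : T := AdjoinRoot.root _
    have ht : t ^ 2 = 0 := by
      have := AdjoinRoot.eval₂_root ((Polynomial.X : Polynomial R) ^ 2)
      rwa [Polynomial.eval₂_X_pow] at this
    have htN : t ^ (N + 2) = 0 := pow_eq_zero_of_le (by omega) ht
    have hE : eP e (N + 2) t 1 = eP e 2 t 1 := Esum_trunc _ e (by omega) (by rw [mul_pow, ← map_pow, ht]; simp)
    have h := hr N T t htN
    rw [K.val_congr _ hE, hr 0 T t ht, Esum_trunc (N := 2) (M := N + 2) _ e (by omega) (by rw [mul_pow, ht, mul_zero])] at h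
    simp only [Esum, Finset.sum_range_succ, Finset.sum_range_zero, he1, map_one, pow_one, one_mul, zero_add, pow_zero,
      add_right_inj] at h
    have h' : AdjoinRoot.mk ((Polynomial.X : Polynomial R) ^ 2) (Polynomial.C (r N - r 0) * Polynomial.X) = 0 := by
      rw [map_mul, AdjoinRoot.mk_X, AdjoinRoot.mk_C, map_sub, sub_mul, sub_eq_zero]
      exact h.symm
    have := Polynomial.X_pow_dvd_iff.1 (AdjoinRoot.mk_eq_zero.1 h') 1 (by norm_num)
    simpa [sub_eq_zero] using this
  refine ⟨r 0, fun A _ _ f hf => ?_⟩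
  obtain ⟨a, N, -, ha, rfl⟩ := exists_eq_eP_of_charZero he hf
  have haN : a ^ (N + 2) = 0 := pow_eq_zero_of_le (by omega) ha
  have hE : eP e N a 1 = eP e (N + 2) a 1 := (Esum_trunc _ e (by omega) (by rw [mul_pow, ← map_pow, ha]; simp)).symm
  rw [K.val_congr hf hE, hr N A a haN, hcons N, hE, eval_eP, Algebra.algebraMap_self, RingHom.id_comp,
    RingHom.id_apply, pow_one, mul_comm a]

/-- functionals are evaluations in characteristic `p` -/
theorem exists_eval_of_charP (p : ℕ) [hp : Fact p.Prime] [CharP R p] :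
    ∃ r : R, ∀ (A : Type u) [CommRing A] [Algebra R A] (f : Polynomial A) (hf : IsChar f),
      K.val A f hf = Polynomial.aeval (algebraMap R A r) f := by
  classical
  have hp0 : (p : R) = 0 := CharP.cast_eq_zero R p
  obtain ⟨e, h0, he⟩ := Groth.L25.GaGmSplit.exists_weights (p := p) (R := R)
  have he1 : e 1 = 1 := by simpa using he 1 hp.out.one_lt
  choose r hr using fun i : ℕ => exists_slope K (P := p ^ i) h0 hp.out.one_lt he fun x y => pow_char_add hp0 i x y
  let Φ : ∀ {S : Type u} [CommRing S], (R →+* S) → S → S → S := fun φ U V =>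
    ∑ x ∈ (Finset.range p ×ˢ Finset.range p).filter (fun x => x.1 + x.2 = p), φ (e x.1 * e x.2) * (U ^ x.1 * V ^ x.2)
  have htwo : ∀ {S : Type u} [CommRing S] (φ : R →+* S) (U V : S), (∀ i j, p < i + j → U ^ i * V ^ j = 0) →
      Esum φ e p U * Esum φ e p V = Esum φ e p (U + V) + Φ φ U V := fun {S} _ φ U V h => by
    rw [← sub_eq_iff_eq_add', Esum_diff φ he]
    symm
    refine Finset.sum_subset (fun x hx => ?_) fun x hx hx' => ?_
    · simp only [Finset.mem_filter, Finset.mem_product] at hx ⊢
      exact ⟨hx.1, hx.2.ge⟩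
    · simp only [Finset.mem_filter, Finset.mem_product] at hx hx'
      rw [h _ _ (lt_of_le_of_ne hx.2 fun e => hx' ⟨hx.1, e.symm⟩), mul_zero]
  have hΦsmul : ∀ {S : Type u} [CommRing S] (φ : R →+* S) (c U V : S), Φ φ (c * U) (c * V) = c ^ p * Φ φ U V :=
    fun {S} _ φ c U V => by
    simp only [Φ, Finset.mul_sum]
    refine Finset.sum_congr rfl fun x hx => ?_
    simp only [Finset.mem_filter] at hx
    rw [mul_pow, mul_pow, ← hx.2, pow_add]
    ring
  have hstep : ∀ i, r (i + 1) = r i ^ p := fun i => by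
    set B := ring2 R p (p + 1)
    set s : B := mk2 R p (p + 1) (MvPolynomial.X 0)
    set t : B := mk2 R p (p + 1) (MvPolynomial.X 1)
    have hs : s ^ p = 0 := mk2_X_pow p (p + 1) 0
    have ht : t ^ p = 0 := mk2_X_pow p (p + 1) 1
    have hbig : ∀ a b, p < a + b → s ^ a * t ^ b = 0 := fun a b hab => mk2_mul_eq_zero hab
    have hst : (s + t) ^ p = 0 := by
      have := pow_char_add (A := B) hp0 1 s t
      rw [pow_one] at this
      rw [this, hs, ht, add_zero]
    let b : B := Φ (algebraMap R B) s t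
    have hbU : ∀ U : B, (U = s ∨ U = t) → b * U = 0 := fun U hU => by
      rw [show b * U = ∑ x ∈ (Finset.range p ×ˢ Finset.range p).filter (fun x => x.1 + x.2 = p),
        algebraMap R B (e x.1 * e x.2) * (s ^ x.1 * t ^ x.2) * U from Finset.sum_mul _ _ _]
      refine Finset.sum_eq_zero fun x hx => ?_
      simp only [Finset.mem_filter] at hx
      rcases hU with rfl | rfl
      · rw [mul_assoc, mul_right_comm (s ^ x.1), ← pow_succ, hbig _ _ (by omega), mul_zero]
      · rw [mul_assoc, mul_assoc (s ^ x.1), ← pow_succ, hbig _ _ (by omega), mul_zero]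
    have hb2 : b * b = 0 := by
      conv_lhs => arg 2; rw [show b = ∑ x ∈ (Finset.range p ×ˢ Finset.range p).filter (fun x => x.1 + x.2 = p),
        algebraMap R B (e x.1 * e x.2) * (s ^ x.1 * t ^ x.2) from rfl]
      rw [Finset.mul_sum]
      refine Finset.sum_eq_zero fun x hx => ?_
      simp only [Finset.mem_filter, Finset.mem_product, Finset.mem_range] at hx
      rw [show s ^ x.1 = s * s ^ (x.1 - 1) by rw [← pow_succ']; congr 1; omega]
      linear_combination (algebraMap R B (e x.1 * e x.2) * s ^ (x.1 - 1) * t ^ x.2) * hbU s (Or.inl rfl)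
    have hbst : b * (s + t) = 0 := by rw [mul_add, hbU s (Or.inl rfl), hbU t (Or.inr rfl), add_zero]
    have hbp : b ^ p = 0 := pow_eq_zero_of_le hp.out.two_le (by rw [pow_two, hb2])
    -- an exponential whose argument squares to zero
    have hlin : ∀ {S : Type u} [CommRing S] (φ : R →+* S) (U : S), U * U = 0 → Esum φ e p U = 1 + U := fun {S} _ φ U hU => by
      rw [Esum_trunc (N := 2) φ e hp.out.two_le (by rw [pow_two, hU]), Esum, Finset.sum_range_succ, Finset.sum_range_one,
        h0, he1]
      simp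
    have habs : ∀ {S : Type u} [CommRing S] (φ : R →+* S) (U W : S), U * W = 0 →
        Esum φ e p U * (1 + W) = Esum φ e p U + W := fun {S} _ φ U W h => by
      rw [mul_add, mul_one]
      congr 1
      rw [Esum, Finset.sum_mul, Finset.sum_eq_single_of_mem 0 (Finset.mem_range.2 hp.out.pos) fun k _ hk => ?_]
      · rw [h0, map_one, pow_zero, one_mul, one_mul]
      · rw [show U ^ k = U ^ (k - 1) * U by rw [← pow_succ]; congr 1; omega, mul_assoc, mul_assoc, h, mul_zero, mul_zero]
    have hpoly : eP e p s (p ^ i) * eP e p t (p ^ i) = eP e p (s + t) (p ^ i) * eP e p b (p ^ (i + 1)) := by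
      simp only [eP]
      rw [hlin _ (Polynomial.C b * _) (by rw [mul_mul_mul_comm, ← map_mul, hb2, map_zero, zero_mul]),
        habs _ _ _ (by rw [mul_mul_mul_comm, ← map_mul, mul_comm (s + t), hbst, map_zero, zero_mul]),
        htwo _ _ _ (fun a c hac => by rw [mul_pow, mul_pow, mul_mul_mul_comm, ← Polynomial.C_pow, ← Polynomial.C_pow, ← Polynomial.C_mul,
          hbig a c hac, map_zero, zero_mul]), map_add, add_mul]
      congr 1
      rw [mul_comm (Polynomial.C s), mul_comm (Polynomial.C t), hΦsmul, ← pow_mul, ← pow_succ, mul_comm]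
      congr 1
      simp only [Φ, b, map_sum, map_mul, map_pow]
      exact Finset.sum_congr rfl fun x _ => by simp only [Polynomial.algebraMap_apply, map_mul]
    have c1 : IsChar (eP e p s (p ^ i)) := char_of (fun x y => pow_char_add hp0 i x y) h0 hp.out.one_lt he hs
    have c2 : IsChar (eP e p t (p ^ i)) := char_of (fun x y => pow_char_add hp0 i x y) h0 hp.out.one_lt he ht
    have c3 : IsChar (eP e p (s + t) (p ^ i)) := char_of (fun x y => pow_char_add hp0 i x y) h0 hp.out.one_lt he hst
    have c4 : IsChar (eP e p b (p ^ (i + 1))) :=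
      char_of (fun x y => pow_char_add hp0 (i + 1) x y) h0 hp.out.one_lt he hbp
    have h := (K.mul_eq c1 c2 (c3.mul c4) hpoly).trans (K.val_mul B _ _ c3 c4)
    rw [hr i B s hs, hr i B t ht, hr i B _ hst, hr (i + 1) B b hbp] at h
    set c : B := algebraMap R B (r i)
    rw [htwo _ _ _ (fun a a' ha => by rw [mul_pow, mul_pow, mul_mul_mul_comm, hbig a a' ha, mul_zero]),
      hlin _ (algebraMap R B (r (i + 1)) * b) (by rw [mul_mul_mul_comm, hb2, mul_zero]),
      habs _ _ _ (by rw [mul_mul_mul_comm, mul_comm (s + t), hbst, mul_zero]), ← mul_add, add_right_inj, hΦsmul,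
      show c ^ p = algebraMap R B (r i ^ p) from (map_pow _ _ _).symm] at h
    -- compare the coefficient of `X * Y ^ (p - 1)`
    have hb : b = mk2 R p (p + 1) (∑ x ∈ (Finset.range p ×ˢ Finset.range p).filter (fun x => x.1 + x.2 = p),
        MvPolynomial.monomial (e2 x.1 x.2) (e x.1 * e x.2)) := by
      rw [map_sum]
      refine Finset.sum_congr rfl fun x _ => ?_
      rw [Groth.L25.GaGmSplit.mon2]
      simp only [map_mul, map_pow, ← MvPolynomial.algebraMap_eq, AlgHom.commutes]
      simp only [B, s, t, mul_assoc]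
    rw [show Φ (algebraMap R B) s t = b from rfl, hb, ← (mk2 R p (p + 1)).commutes, ← (mk2 R p (p + 1)).commutes,
      ← map_mul, ← map_mul] at h
    have h2 := mk2_inj_coeff h (i := 1) (j := p - 1) hp.out.one_lt (show p - 1 < p by have := hp.out.pos; omega)
      (show 1 + (p - 1) < p + 1 by have := hp.out.pos; omega)
    simp only [MvPolynomial.algebraMap_eq, MvPolynomial.coeff_C_mul, MvPolynomial.coeff_sum,
      MvPolynomial.coeff_monomial, e2_inj] at h2
    rw [Finset.sum_eq_single (1, p - 1) (fun x _ hx => by rw [if_neg]; exact fun h => hx (Prod.ext h.1 h.2))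
      (fun h => by simp at h; have := hp.out.two_le; omega), if_pos ⟨rfl, rfl⟩, he1, one_mul] at h2
    have hu := he (p - 1) (by have := hp.out.pos; omega)
    linear_combination (((p - 1).factorial : R) * -1) * h2 + (r i ^ p - r (i + 1)) * hu
  have hr' : ∀ i, r i = r 0 ^ p ^ i := fun i => by
    induction i with
    | zero => simp
    | succ i ih => rw [hstep, ih, ← pow_mul, pow_succ]
  refine ⟨r 0, fun A _ _ f hf => ?_⟩
  refine char_induction hp0 (R := R) h0 he (fun f hf => K.val A f hf = Polynomial.aeval (algebraMap R A (r 0)) f) ?_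
    (fun a i ha => ?_) (fun f g hf hg ef eg => ?_) hf
  · rw [K.val_one, map_one]
  · rw [hr i A a ha, hr' i, eval_eP, Algebra.algebraMap_self, RingHom.id_comp, RingHom.id_apply, map_pow, mul_comm a]
  · rw [K.val_mul A f g hf hg, map_mul, ef, eg]

end Groth.L07.GaDD
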